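import Groth.Agent.RegLoc.PD
import Groth.Agent.RegLoc.Homological
import Groth.Agent.Depth.Open
import Mathlib.RingTheory.Ideal.Cotangent
import Mathlib.RingTheory.Localization.Algebra
import Mathlib.RingTheory.Localization.BaseChange

/-!
# Ferrand–Vasconcelos: ideals of finite projective dimension with free conormal summand
-/

set_option autoImplicit false
set_option linter.unusedSectionVars false

open CategoryTheory RingTheory.Sequence
open scoped TensorProduct Pointwise

namespace Groth.Agent.LCI.Vasconcelos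

universe u

set_option maxHeartbeats 400000

variable {R : Type u} [CommRing R]

/-- Prime avoidance for a coset of an ideal. -/
theorem exists_add_notMem (S : Finset (Ideal R)) (hS : ∀ p ∈ S, p.IsPrime) (K : Ideal R)
    (hK : ∀ p ∈ S, ¬ K ≤ p) (x : R) : ∃ y ∈ K, ∀ p ∈ S, x + y ∉ p := by
  classical
  let T := S.filter fun p => ∀ q ∈ S, p ≤ q → q = p
  have hT : ∀ p ∈ S, ∃ q ∈ T, p ≤ q := fun p hp => by
    obtain ⟨q, hpq, hq⟩ := S.exists_le_maximal hp
    exact ⟨q, Finset.mem_filter.2 ⟨hq.1, fun r hr hqr => le_antisymm (hq.2 hr hqr) hqr⟩, hpq⟩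
  let T2 := T.filter fun p => x ∉ p
  let T1 := T.filter fun p => x ∈ p
  let L : Ideal R := K * T2.prod id
  have hL : ∀ p ∈ T1, ¬ L ≤ p := fun p hp hle => by
    obtain ⟨hpT, hxp⟩ := Finset.mem_filter.1 hp
    have hpS : p ∈ S := (Finset.mem_filter.1 hpT).1
    rcases (hS p hpS).mul_le.1 hle with h | h
    · exact hK p hpS h
    · obtain ⟨q, hq, hqp⟩ := (hS p hpS).prod_le.1 h
      obtain ⟨hqT, hxq⟩ := Finset.mem_filter.1 hq
      have : p = q := (Finset.mem_filter.1 hqT).2 p hpS hqp
      exact hxq (this ▸ hxp)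
  have hy : ∃ y ∈ L, ∀ p ∈ T1, y ∉ p := by
    by_contra hcon
    push Not at hcon
    have hsub : (L : Set R) ⊆ ⋃ p ∈ (↑T1 : Set (Ideal R)), ((id p : Ideal R) : Set R) := fun y hy => by
      obtain ⟨p, hp, hyp⟩ := hcon y hy
      exact Set.mem_biUnion (Finset.mem_coe.2 hp) hyp
    have h2 := Ideal.subset_union_prime (s := T1) (f := (id : Ideal R → Ideal R)) (⊥ : Ideal R) ⊥
      (fun p hp _ _ => hS p (Finset.mem_filter.1 (Finset.mem_filter.1 hp).1).1) (I := L)
    obtain ⟨p, hp, hle⟩ := h2.1 hsub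
    exact hL p hp hle
  obtain ⟨y, hy, hyp⟩ := hy
  refine ⟨y, (Ideal.mul_le_left : L ≤ K) hy, fun p hp hxy => ?_⟩
  obtain ⟨q, hq, hpq⟩ := hT p hp
  have hxy' : x + y ∈ q := hpq hxy
  by_cases hxq : x ∈ q
  · refine hyp q (Finset.mem_filter.2 ⟨hq, hxq⟩) ?_
    have := q.sub_mem hxy' hxq
    rwa [add_sub_cancel_left] at this
  · have hle : T2.prod id ≤ q :=
      le_trans Ideal.prod_le_inf (Finset.inf_le (f := id) (Finset.mem_filter.2 ⟨hq, hxq⟩))
    have hyq : y ∈ q := hle ((Ideal.mul_le_right : L ≤ T2.prod id) hy)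
    have := q.sub_mem hxy' hyq
    rw [add_sub_cancel_right] at this
    exact hxq this

/-- An ideal of finite projective dimension with a free conormal summand lies in no associated
prime, hence contains a nonzerodivisor congruent to the chosen generator modulo `I ^ 2`. -/
theorem exists_nonZeroDivisor [IsNoetherianRing R] (I : Ideal R) (n : ℕ)
    (hpd : HasProjectiveDimensionLE (ModuleCat.of R I) n) (x₀ : I) (lam : I →ₗ[R] R ⧸ I)
    (h1 : lam x₀ = 1) :
    ∃ y : I, (y : R) - x₀ ∈ I ^ 2 ∧ (y : R) ∈ nonZeroDivisors R := by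
  have hnot : ∀ p ∈ associatedPrimes R R, ¬ I ≤ p := by
    intro p hp hIp
    obtain ⟨hpp, a, ha⟩ := isAssociatedPrime_iff.1 hp
    have hmem : ∀ c, c ∈ p ↔ c * a = 0 := fun c => by
      rw [ha, Submodule.mem_colon_singleton, Submodule.mem_bot, smul_eq_mul]
    let Rp := Localization.AtPrime p
    have : IsNoetherianRing Rp := IsLocalization.isNoetherianRing p.primeCompl Rp inferInstance
    have hz : algebraMap R Rp a ≠ 0 := fun h => by
      obtain ⟨c, hc⟩ := (IsLocalization.map_eq_zero_iff p.primeCompl Rp a).1 h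
      exact c.2 ((hmem c).2 hc)
    have hzm : ∀ b ∈ IsLocalRing.maximalIdeal Rp, algebraMap R Rp a * b = 0 := fun b hb => by
      rw [← Localization.AtPrime.map_eq_maximalIdeal] at hb
      induction hb using Submodule.span_induction with
      | mem c hc =>
        obtain ⟨c, hc, rfl⟩ := hc
        rw [← map_mul, mul_comm, (hmem c).1 hc, map_zero]
      | zero => simp
      | add b c _ _ hb hc => rw [mul_add, hb, hc, add_zero]
      | smul b c _ hc => rw [smul_eq_mul, mul_left_comm, hc, mul_zero]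
    have hM := RegLoc.Homological.projective_of_pd_of_socle hz hzm n (Rp ⊗[R] I)
      (RegLoc.PD.pd_baseChange_of_flat Rp n I hpd)
    have : Module.Free Rp (Rp ⊗[R] I) := Module.free_of_flat_of_isLocalRing
    have hzero : ∀ w : Rp ⊗[R] I, algebraMap R Rp a • w = 0 := by
      intro w
      induction w using TensorProduct.induction_on with
      | zero => simp
      | add v w hv hw => rw [smul_add, hv, hw, add_zero]
      | tmul s i =>
        rw [algebraMap_smul, ← TensorProduct.tmul_smul,
          show a • i = 0 from Subtype.ext (by simpa [mul_comm] using (hmem i).1 (hIp i.2)),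
          TensorProduct.tmul_zero]
    have hsub : ∀ w : Rp ⊗[R] I, w = 0 := fun w => by
      let b := Module.Free.chooseBasis Rp (Rp ⊗[R] I)
      refine b.repr.injective (Finsupp.ext fun j => ?_)
      exfalso
      have hj := hzero (b j)
      have := DFunLike.congr_fun (congrArg b.repr hj) j
      rw [map_smul, Module.Basis.repr_self, map_zero] at this
      exact hz (by simpa [Algebra.smul_def] using this)
    have h0 : algebraMap R Rp (x₀ : R) = 0 := by
      have := congrArg ((I.subtype.baseChange Rp)) (hsub ((1 : Rp) ⊗ₜ x₀))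
      rw [LinearMap.baseChange_tmul, map_zero] at this
      simpa [Algebra.smul_def] using congrArg (TensorProduct.AlgebraTensorModule.rid R Rp Rp) this
    obtain ⟨c, hc⟩ := (IsLocalization.map_eq_zero_iff p.primeCompl Rp (x₀ : R)).1 h0
    have h2 : (c : R) • lam x₀ = 0 := by
      rw [← map_smul, show (c : R) • x₀ = 0 from Subtype.ext hc, map_zero]
    rw [h1, ← Algebra.algebraMap_eq_smul_one, Ideal.Quotient.algebraMap_eq,
      Ideal.Quotient.eq_zero_iff_mem] at h2
    exact c.2 (hIp h2)
  have hfin := associatedPrimes.finite R R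
  obtain ⟨y, hy, hy'⟩ := exists_add_notMem hfin.toFinset
    (fun p hp => IsAssociatedPrime.isPrime (hfin.mem_toFinset.1 hp)) (I ^ 2)
    (fun p hp h => hnot p (hfin.mem_toFinset.1 hp)
      ((IsAssociatedPrime.isPrime (hfin.mem_toFinset.1 hp)).le_of_pow_le h)) x₀
  refine ⟨⟨x₀ + y, add_mem x₀.2 (Ideal.pow_le_self two_ne_zero hy)⟩, by simpa using hy, ?_⟩
  by_contra h
  have : ((x₀ : R) + y) ∈ ((nonZeroDivisors R : Submonoid R) : Set R)ᶜ := h
  rw [← biUnion_associatedPrimes_eq_compl_nonZeroDivisors] at this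
  obtain ⟨p, hp, hyp⟩ := Set.mem_iUnion₂.1 this
  exact hy' p (hfin.mem_toFinset.2 hp) hyp

/-- A functional on `I` with values killed by `I` kills `I ^ 2`. -/
theorem apply_eq_of_sub_mem_sq (I : Ideal R) {ι : Type*} (lam : I →ₗ[R] ι → R ⧸ I) (x y : I)
    (h : (x : R) - y ∈ I ^ 2) : lam x = lam y := by
  have key : ∀ a ∈ I ^ 2, ∃ ha : a ∈ I, lam ⟨a, ha⟩ = 0 := by
    intro a hsq
    rw [pow_two] at hsq
    refine Submodule.mul_induction_on (C := fun a => ∃ ha : a ∈ I, lam ⟨a, ha⟩ = 0) hsq
      (fun b hb c hc => ⟨I.mul_mem_left b hc, ?_⟩) ?_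
    · have : (⟨b * c, I.mul_mem_left b hc⟩ : I) = b • ⟨c, hc⟩ := rfl
      rw [this, map_smul]
      funext j
      rw [Pi.smul_apply, Pi.zero_apply, Algebra.smul_def, Ideal.Quotient.algebraMap_eq,
        Ideal.Quotient.eq_zero_iff_mem.2 hb, zero_mul]
    · rintro b c ⟨hb, hb'⟩ ⟨hc, hc'⟩
      exact ⟨I.add_mem hb hc, by rw [show (⟨b + c, I.add_mem hb hc⟩ : I) = ⟨b, hb⟩ + ⟨c, hc⟩ from rfl,
        map_add, hb', hc', add_zero]⟩
  rw [← sub_eq_zero, ← map_sub]
  obtain ⟨_, hk⟩ := key _ h
  exact hk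

/-- The induction: an ideal of finite projective dimension with free conormal summand. -/
theorem exists_isRegular : ∀ (r : ℕ) (R : Type u) [CommRing R] [IsLocalRing R] [IsNoetherianRing R]
    (I : Ideal R), I ≠ ⊤ → ∀ (n : ℕ), HasProjectiveDimensionLE (ModuleCat.of R I) n →
    ∀ (x₀ : Fin r → I) (lam : I →ₗ[R] Fin r → R ⧸ I), (∀ j, lam (x₀ j) = Pi.single j 1) →
    ∃ y : Fin r → I, (∀ j, (y j : R) - x₀ j ∈ I ^ 2) ∧
      IsRegular R (List.ofFn fun j => (y j : R)) := by
  intro r
  induction r with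
  | zero =>
    intro R _ _ _ I hI n hpd x₀ lam hlam
    exact ⟨x₀, fun j => j.elim0, by simp [IsRegular.nil]⟩
  | succ r ih =>
    intro R _ _ _ I hI n hpd x₀ lam hlam
    obtain ⟨y₀, hy₀, hreg⟩ := exists_nonZeroDivisor I n hpd (x₀ 0) ((LinearMap.proj 0).comp lam)
      (by simp [hlam])
    have hlam₀ : lam y₀ = Pi.single 0 1 := (apply_eq_of_sub_mem_sq I lam _ _ hy₀).trans (hlam 0)
    set x : R := (y₀ : R)
    have hxreg : IsSMulRegular R x := by
      intro a b h
      exact ((mem_nonZeroDivisors_iff_right.1 hreg) (a - b) (by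
        rw [sub_mul, sub_eq_zero, mul_comm a, mul_comm b]; exact h) : a - b = 0) |> sub_eq_zero.1
    let R' := R ⧸ Ideal.span {x}
    let q : R →+* R' := Ideal.Quotient.mk (Ideal.span {x})
    have hxI : Ideal.span {x} ≤ I := (Ideal.span_singleton_le_iff_mem I).2 y₀.2
    have : Nontrivial R' := Ideal.Quotient.nontrivial_iff.2 fun h => hI (top_le_iff.1 (h ▸ hxI))
    have : IsLocalRing R' := IsLocalRing.of_surjective' q Ideal.Quotient.mk_surjective
    let I' : Ideal R' := I.map q
    have hI' : I' ≠ ⊤ := fun h => by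
      have := Ideal.comap_map_of_surjective q Ideal.Quotient.mk_surjective I
      rw [show Ideal.map q I = ⊤ from h, Ideal.comap_top, ← RingHom.ker_eq_comap_bot, Ideal.mk_ker,
        sup_eq_left.2 hxI] at this
      exact hI this.symm
    let π : I →ₗ[R] I' :=
      { toFun := fun i => ⟨q i, Ideal.mem_map_of_mem q i.2⟩
        map_add' := fun i j => Subtype.ext (map_add q _ _)
        map_smul' := fun c i => Subtype.ext (map_mul q _ _) }
    have hπ : Function.Surjective π := fun ⟨z, hz⟩ => by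
      obtain ⟨i, hi, rfl⟩ := (Ideal.mem_map_iff_of_surjective q Ideal.Quotient.mk_surjective).1 hz
      exact ⟨⟨i, hi⟩, rfl⟩
    have hker : ∀ i : I, π i = 0 → ∃ a, i = a • y₀ := fun i hi => by
      obtain ⟨a, ha⟩ := Ideal.mem_span_singleton'.1
        (Ideal.Quotient.eq_zero_iff_mem.1 (congrArg Subtype.val hi))
      exact ⟨a, Subtype.ext ha.symm⟩
    -- the retraction `I' → R' ⊗ I`
    let t : R ⧸ I →ₗ[R] R' ⊗[R] I := Submodule.liftQ I (LinearMap.toSpanSingleton R _ (1 ⊗ₜ y₀))
      fun c hc => by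
        rw [LinearMap.mem_ker, LinearMap.toSpanSingleton_apply, ← TensorProduct.tmul_smul,
          show c • y₀ = x • (⟨c, hc⟩ : I) from Subtype.ext (mul_comm _ _),
          ← TensorProduct.smul_tmul, ← Algebra.algebraMap_eq_smul_one, Ideal.Quotient.algebraMap_eq,
          Ideal.Quotient.eq_zero_iff_mem.2 (Ideal.mem_span_singleton_self x), TensorProduct.zero_tmul]
    let s₀ : I →ₗ[R] R' ⊗[R] I :=
      TensorProduct.mk R R' I 1 - t.comp ((LinearMap.proj 0).comp lam)
    have hs₀ : LinearMap.ker π ≤ LinearMap.ker s₀ := fun i hi => by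
      obtain ⟨a, rfl⟩ := hker i hi
      rw [LinearMap.mem_ker, map_smul]
      have : t 1 = 1 ⊗ₜ y₀ := by
        change t (Submodule.Quotient.mk (1 : R)) = _
        rw [Submodule.liftQ_apply]
        simp
      simp [s₀, hlam₀, this]
    let mq : R ⧸ I →ₗ[R] R' ⧸ I' := Submodule.liftQ I
      ((Ideal.Quotient.mkₐ R I').toLinearMap.comp (Algebra.linearMap R R'))
      (fun c hc => (Ideal.Quotient.eq_zero_iff_mem (I := I')).2 (Ideal.mem_map_of_mem q hc))
    have hmq1 : mq 1 = 1 := by
      change mq (Submodule.Quotient.mk (1 : R)) = 1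
      rw [Submodule.liftQ_apply]
      simp
    let l₀ : I →ₗ[R] Fin r → R' ⧸ I' :=
      LinearMap.pi fun j => mq.comp ((LinearMap.proj j.succ).comp lam)
    have hl₀app : ∀ i j, l₀ i j = mq (lam i j.succ) := fun i j => rfl
    have hl₀ : LinearMap.ker π ≤ LinearMap.ker l₀ := fun i hi => by
      obtain ⟨a, rfl⟩ := hker i hi
      rw [LinearMap.mem_ker, map_smul]
      refine smul_eq_zero_of_right a (funext fun j => ?_)
      rw [hl₀app, hlam₀, Pi.single_eq_of_ne (Fin.succ_ne_zero j), map_zero, Pi.zero_apply]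
    let e := π.quotKerEquivOfSurjective hπ
    let s : I' →ₗ[R] R' ⊗[R] I := ((LinearMap.ker π).liftQ s₀ hs₀).comp e.symm.toLinearMap
    let l : I' →ₗ[R] Fin r → R' ⧸ I' := ((LinearMap.ker π).liftQ l₀ hl₀).comp e.symm.toLinearMap
    have he : ∀ i, e.symm (π i) = Submodule.Quotient.mk i := fun i =>
      e.symm_apply_eq.2 rfl
    have hs : ∀ i, s (π i) = s₀ i := fun i => by simp [s, he]
    have hl : ∀ i, l (π i) = l₀ i := fun i => by simp [l, he]
    have hR' : Function.Surjective (algebraMap R R') := Ideal.Quotient.mk_surjective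
    let s' : I' →ₗ[R'] R' ⊗[R] I := { s with
      map_smul' := fun c m => by
        obtain ⟨c, rfl⟩ := hR' c
        simp only [algebraMap_smul, RingHom.id_apply, AddHom.toFun_eq_coe, LinearMap.coe_toAddHom,
          map_smul] }
    let l' : I' →ₗ[R'] Fin r → R' ⧸ I' := { l with
      map_smul' := fun c m => by
        obtain ⟨c, rfl⟩ := hR' c
        simp only [algebraMap_smul, RingHom.id_apply, AddHom.toFun_eq_coe, LinearMap.coe_toAddHom,
          map_smul] }
    let ρ : R' ⊗[R] I →ₗ[R'] I' := π.liftBaseChange R'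
    have hIreg : IsSMulRegular I x := fun a b h => Subtype.ext (hxreg (congrArg Subtype.val h))
    have hpd' : HasProjectiveDimensionLE (ModuleCat.of R' I') n := by
      refine RegLoc.PD.pd_retract s' ρ ?_ n (RegLoc.PD.pd_baseChange_quotient hxreg n I hIreg hpd)
      refine LinearMap.ext fun z => ?_
      obtain ⟨i, rfl⟩ := hπ z
      change ρ (s (π i)) = π i
      rw [hs]
      obtain ⟨c, hc⟩ := Ideal.Quotient.mk_surjective (lam i 0)
      have hπy : π y₀ = 0 :=
        Subtype.ext (Ideal.Quotient.eq_zero_iff_mem.2 (Ideal.mem_span_singleton_self x))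
      simp only [s₀, LinearMap.sub_apply, LinearMap.comp_apply, LinearMap.proj_apply, ← hc]
      change ρ (1 ⊗ₜ i - c • (1 ⊗ₜ y₀)) = π i
      simp [ρ, hπy, ← TensorProduct.tmul_smul]
    obtain ⟨y', hy', hreg'⟩ := ih R' I' hI' n hpd' (fun j => π (x₀ j.succ)) l' fun j => by
      change l (π _) = _
      rw [hl]
      funext k
      rw [hl₀app, hlam]
      by_cases hkj : k = j
      · subst hkj
        rw [Pi.single_eq_same, Pi.single_eq_same, hmq1]
      · rw [Pi.single_eq_of_ne hkj, Pi.single_eq_of_ne (fun h => hkj (Fin.succ_injective _ h)),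
          map_zero]
    have hlift : ∀ j, ∃ z : I, (z : R) - x₀ j.succ ∈ I ^ 2 ∧ q z = y' j := fun j => by
      have h := hy' j
      rw [← Ideal.map_pow, Ideal.mem_map_iff_of_surjective q Ideal.Quotient.mk_surjective] at h
      obtain ⟨d, hd, hd'⟩ := h
      refine ⟨⟨(x₀ j.succ : R) + d, add_mem (x₀ j.succ).2 (Ideal.pow_le_self two_ne_zero hd)⟩,
        by simpa using hd, ?_⟩
      rw [map_add, hd']
      exact add_sub_cancel _ _
    choose z hz hz' using hlift
    refine ⟨Fin.cons y₀ z, fun j => ?_, ?_⟩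
    · exact Fin.cases hy₀ hz j
    · rw [List.ofFn_succ]
      simp only [Fin.cons_zero, Fin.cons_succ]
      rw [isRegular_cons_iff']
      refine ⟨hxreg, ?_⟩
      have hmap : (List.ofFn fun j => (z j : R)).map q = List.ofFn fun j => (y' j : R') := by
        rw [List.map_ofFn]
        exact congrArg List.ofFn (funext hz')
      rw [hmap]
      have e' : R' ≃ₗ[R] QuotSMulTop x R := Submodule.quotEquivOfEq _ _
        (by rw [← Submodule.ideal_span_singleton_smul, smul_eq_mul, Ideal.mul_top])
      let e'' : R' ≃ₗ[R'] QuotSMulTop x R := { e' with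
        map_smul' := fun c m => by
          obtain ⟨c, rfl⟩ := hR' c
          simp only [algebraMap_smul, RingHom.id_apply, AddHom.toFun_eq_coe,
            LinearMap.coe_toAddHom, LinearEquiv.coe_coe, map_smul] }
      exact (e''.isRegular_congr _).1 hreg'

/-- Weak regularity only depends on the elements up to units. -/
theorem isWeaklyRegular_of_unit_mul : ∀ (rs ts : List R) (M : Type u) [AddCommGroup M] [Module R M],
    List.Forall₂ (fun r t => ∃ v : R, IsUnit v ∧ t = v * r) rs ts →
    IsWeaklyRegular M rs → IsWeaklyRegular M ts := by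
  intro rs
  induction rs with
  | nil =>
    intro ts M _ _ h hr
    rw [List.forall₂_nil_left_iff.1 h]
    exact hr
  | cons r rs ih =>
    intro ts M _ _ h hr
    obtain ⟨t, ts, ⟨v, hv, rfl⟩, h', rfl⟩ := List.forall₂_cons_left_iff.1 h
    rw [isWeaklyRegular_cons_iff] at hr ⊢
    refine ⟨(hv.isSMulRegular M).mul hr.1, ?_⟩
    refine ((Submodule.quotEquivOfEq _ _ ?_).isWeaklyRegular_congr _).1 (ih ts _ h' hr.2)
    rw [← Submodule.ideal_span_singleton_smul, ← Submodule.ideal_span_singleton_smul (v * r),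
      Ideal.span_singleton_mul_left_unit hv]

end Groth.Agent.LCI.Vasconcelos
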