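import Groth.Agent.LCI.Vasconcelos

/-!
# Ideals of finite projective dimension with projective conormal module are regular
-/

set_option autoImplicit false
set_option linter.unusedSectionVars false

open CategoryTheory RingTheory.Sequence
open scoped TensorProduct Pointwise

namespace Groth.Agent.LCI.RegularIdeal

universe u

set_option maxHeartbeats 800000

/-- Local case. -/
theorem exists_regular_generators (S : Type u) [CommRing S] [IsLocalRing S] [IsNoetherianRing S]
    (J : Ideal S) (hJ : J ≠ ⊤) (n : ℕ) (hpd : HasProjectiveDimensionLE (ModuleCat.of S J) n)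
    [Module.Projective (S ⧸ J) J.Cotangent] :
    ∃ (r : ℕ) (y : Fin r → S), IsRegular S (List.ofFn y) ∧ Ideal.span (Set.range y) = J := by
  classical
  have : Nontrivial (S ⧸ J) := Ideal.Quotient.nontrivial_iff.2 hJ
  have : IsLocalRing (S ⧸ J) :=
    IsLocalRing.of_surjective' (Ideal.Quotient.mk J) Ideal.Quotient.mk_surjective
  have : Module.Finite S J.Cotangent := Module.Finite.of_surjective J.toCotangent J.toCotangent_surjective
  have : Module.Finite (S ⧸ J) J.Cotangent := Module.Finite.of_restrictScalars_finite S _ _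
  have : Module.Free (S ⧸ J) J.Cotangent := Module.free_of_flat_of_isLocalRing
  let b := Module.finBasis (S ⧸ J) J.Cotangent
  let lam : J →ₗ[S] Fin (Module.finrank (S ⧸ J) J.Cotangent) → S ⧸ J :=
    (b.equivFun.toLinearMap.restrictScalars S).comp J.toCotangent
  choose x₀ hx₀ using fun j => J.toCotangent_surjective (b j)
  obtain ⟨y, hy, hreg⟩ := Vasconcelos.exists_isRegular _ S J hJ n hpd x₀ lam fun j => by
    funext k
    simp [lam, hx₀, Pi.single_apply, eq_comm]
  have hcls : ∀ j, J.toCotangent (y j) = b j := fun j => by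
    rw [← hx₀, Ideal.toCotangent_eq]
    exact hy j
  refine ⟨_, fun j => (y j : S), hreg, le_antisymm ?_ ?_⟩
  · rw [Ideal.span_le]
    rintro _ ⟨j, rfl⟩
    exact (y j).2
  · refine Submodule.le_of_le_smul_of_le_jacobson_bot (IsNoetherian.noetherian J)
      (IsLocalRing.le_maximalIdeal hJ |>.trans (IsLocalRing.jacobson_eq_maximalIdeal ⊥ bot_ne_top).ge)
      fun a ha => ?_
    have hv := b.sum_repr (J.toCotangent ⟨a, ha⟩)
    choose c hc using fun j => Ideal.Quotient.mk_surjective (b.repr (J.toCotangent ⟨a, ha⟩) j)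
    have hv' : J.toCotangent ⟨a, ha⟩ = J.toCotangent (∑ j, c j • y j) := by
      rw [← hv, map_sum]
      refine Finset.sum_congr rfl fun j _ => ?_
      rw [map_smul, hcls, ← hc]
      exact algebraMap_smul (S ⧸ J) (c j) (b j)
    rw [Ideal.toCotangent_eq] at hv'
    have h2 : ((∑ j, c j • y j : J) : S) ∈ Ideal.span (Set.range fun j => (y j : S)) := by
      rw [Submodule.coe_sum]
      exact Ideal.sum_mem _ fun j _ => Ideal.mul_mem_left _ _ (Ideal.subset_span ⟨j, rfl⟩)
    rw [Submodule.mem_sup]
    refine ⟨_, h2, _, ?_, add_sub_cancel _ a⟩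
    rw [smul_eq_mul, ← pow_two]
    exact hv'

section Transfer

variable {R : Type u} [CommRing R] (I : Ideal R) (T : Submonoid R)

theorem projective_cotangent_map (S : Type u) [CommRing S] [Algebra R S] [IsLocalization T S]
    [Module.Finite R I] [Module.Projective (R ⧸ I) I.Cotangent] :
    Module.Projective (S ⧸ I.map (algebraMap R S)) (I.map (algebraMap R S)).Cotangent := by
  classical
  set J := I.map (algebraMap R S) with hJ
  obtain ⟨k, g, hg⟩ := Module.Finite.exists_fin' R I
  let gen : Fin k → I := fun j => g (Pi.single j 1)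
  let π₀ := Fintype.linearCombination (R ⧸ I) fun j => I.toCotangent (gen j)
  have hπ₀ : Function.Surjective π₀ := fun v => by
    obtain ⟨i, rfl⟩ := I.toCotangent_surjective v
    obtain ⟨c, rfl⟩ := hg i
    refine ⟨fun j => Ideal.Quotient.mk I (c j), ?_⟩
    conv_rhs => rw [← Finset.univ_sum_single c, map_sum, map_sum]
    simp only [π₀, Fintype.linearCombination_apply]
    refine Finset.sum_congr rfl fun j _ => ?_
    rw [show Pi.single j (c j) = c j • (Pi.single j (1 : R) : Fin k → R) by
      rw [← Pi.single_smul', smul_eq_mul, mul_one], map_smul, map_smul]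
    exact algebraMap_smul (R ⧸ I) (c j) _
  obtain ⟨s₀, hs₀⟩ := Module.projective_lifting_property π₀ LinearMap.id hπ₀
  let φ : I →ₗ[R] Fin k → R ⧸ I := (s₀.restrictScalars R).comp I.toCotangent
  -- pieces over `S`
  let f : I →ₗ[R] J := Algebra.idealMap I (S := S)
  have hbc : IsBaseChange S f := IsLocalizedModule.isBaseChange T S f
  let mq : R ⧸ I →ₗ[R] S ⧸ J := Submodule.liftQ I
    ((Ideal.Quotient.mkₐ R J).toLinearMap.comp (Algebra.linearMap R S))
    (fun c hc => (Ideal.Quotient.eq_zero_iff_mem (I := J)).2 (Ideal.mem_map_of_mem _ hc))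
  have hmq : ∀ c : R, mq (Ideal.Quotient.mk I c) = Ideal.Quotient.mk J (algebraMap R S c) :=
    fun c => Submodule.liftQ_apply _ _ c
  let φ' : J →ₗ[S] Fin k → S ⧸ J := hbc.lift (mq.compLeft (Fin k) ∘ₗ φ)
  let π' := Fintype.linearCombination (S ⧸ J) fun j => J.toCotangent (f (gen j))
  let μ : I.Cotangent →ₗ[R] J.Cotangent :=
    Submodule.liftQ (I • ⊤ : Submodule R I) ((J.toCotangent.restrictScalars R).comp f) fun i hi => by
      rw [LinearMap.mem_ker]
      refine Submodule.smul_induction_on hi (fun c hc m _ => ?_) fun a b ha hb => by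
        rw [map_add, ha, hb, add_zero]
      rw [map_smul, ← algebraMap_smul S c (((J.toCotangent.restrictScalars R).comp f) m)]
      change algebraMap R S c • J.toCotangent (f m) = 0
      rw [← map_smul, Ideal.toCotangent_eq_zero, pow_two]
      exact Ideal.mul_mem_mul (Ideal.mem_map_of_mem _ hc) (f m).2
  have hμ : ∀ i, μ (I.toCotangent i) = J.toCotangent (f i) := fun i => Submodule.liftQ_apply _ _ i
  have hid : ∀ x, π' (φ' x) = J.toCotangent x := fun x => by
    refine LinearMap.congr_fun (hbc.algHom_ext ((π'.restrictScalars S).comp φ') J.toCotangent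
      fun i => ?_) x
    change π' (φ' (f i)) = _
    rw [show φ' (f i) = mq.compLeft (Fin k) (φ i) from hbc.lift_eq _ i]
    simp only [π', Fintype.linearCombination_apply, LinearMap.compLeft_apply]
    have h1 : ∑ j, φ i j • I.toCotangent (gen j) = I.toCotangent i := by
      have := LinearMap.congr_fun hs₀ (I.toCotangent i)
      simpa [π₀, φ, Fintype.linearCombination_apply] using this
    conv_rhs => rw [← hμ, ← h1, map_sum]
    refine Finset.sum_congr rfl fun j _ => ?_
    obtain ⟨c, hc⟩ := Ideal.Quotient.mk_surjective (φ i j)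
    have e1 : φ i j • I.toCotangent (gen j) = c • I.toCotangent (gen j) := by
      rw [← hc]; exact algebraMap_smul (R ⧸ I) c _
    rw [e1, map_smul, hμ, Function.comp_apply, ← hc, hmq]
    exact (algebraMap_smul (S ⧸ J) (algebraMap R S c) _).trans (algebraMap_smul S c _)
  have hker : (J • ⊤ : Submodule S J) ≤ LinearMap.ker φ' := by
    refine Submodule.smul_le.2 fun c hc m _ => ?_
    rw [LinearMap.mem_ker, map_smul]
    funext j
    rw [Pi.smul_apply, Algebra.smul_def, Ideal.Quotient.algebraMap_eq,
      Ideal.Quotient.eq_zero_iff_mem.2 hc, zero_mul, Pi.zero_apply]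
  let s₁ : J.Cotangent →ₗ[S] Fin k → S ⧸ J := Submodule.liftQ _ φ' hker
  let s' : J.Cotangent →ₗ[S ⧸ J] Fin k → S ⧸ J :=
    { s₁ with
      map_smul' := fun c m => by
        obtain ⟨c, rfl⟩ := Ideal.Quotient.mk_surjective c
        change s₁ (algebraMap S (S ⧸ J) c • m) = algebraMap S (S ⧸ J) c • s₁ m
        rw [algebraMap_smul, algebraMap_smul, map_smul] }
  refine Module.Projective.of_split s' π' (LinearMap.ext fun v => ?_)
  obtain ⟨x, rfl⟩ := J.toCotangent_surjective v
  change π' (s₁ (J.toCotangent x)) = _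
  rw [show s₁ (J.toCotangent x) = φ' x from Submodule.liftQ_apply _ _ x]
  exact hid x

end Transfer

variable {R : Type u} [CommRing R] [IsNoetherianRing R]

theorem exists_notMem_isWeaklyRegular_of_isUnit (p : Ideal R) [p.IsPrime] :
    ∀ (rs : List R) (M : Type u) [AddCommGroup M] [Module R M] [Module.Finite R M],
      IsWeaklyRegular (LocalizedModule p.primeCompl M)
        (rs.map (algebraMap R (Localization.AtPrime p))) →
      ∃ f ∉ p, ∀ (T : Submonoid R), IsUnit (algebraMap R (Localization T) f) →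
        IsWeaklyRegular (LocalizedModule T M) (rs.map (algebraMap R (Localization T))) := by
  intro rs
  induction rs with
  | nil => exact fun M _ _ _ _ => ⟨1, p.ne_top_iff_one.mp ‹p.IsPrime›.ne_top, fun T _ => by simp⟩
  | cons x rs ih =>
    intro M _ _ _ h
    rw [Depth.isWeaklyRegular_localizedModule_cons_iff] at h
    obtain ⟨f, hfp, hf⟩ := Depth.exists_smul_eq_zero_of_isSMulRegular h.1
    obtain ⟨g, hgp, hg⟩ := ih _ h.2
    refine ⟨f * g, fun hmem => (‹p.IsPrime›.mem_or_mem hmem).elim hfp hgp, fun T hT => ?_⟩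
    rw [map_mul] at hT
    rw [Depth.isWeaklyRegular_localizedModule_cons_iff]
    exact ⟨Depth.isSMulRegular_localizedModule_of_smul_eq_zero T (isUnit_of_mul_isUnit_left hT) hf,
      hg T (isUnit_of_mul_isUnit_right hT)⟩

theorem exists_away_regular (I : Ideal R) (n : ℕ)
    (hpd : HasProjectiveDimensionLE (ModuleCat.of R I) n)
    [Module.Projective (R ⧸ I) I.Cotangent] (p : Ideal R) [p.IsPrime] (hIp : I ≤ p) :
    ∃ g : R, g ∉ p ∧ ∃ rs : List (Localization.Away g),
      IsRegular (Localization.Away g) rs ∧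
        Ideal.ofList rs = I.map (algebraMap R (Localization.Away g)) := by
  classical
  let Rp := Localization.AtPrime p
  have : IsNoetherianRing Rp := IsLocalization.isNoetherianRing p.primeCompl Rp inferInstance
  set J := I.map (algebraMap R Rp) with hJdef
  have hJ : J ≠ ⊤ := fun h => (IsLocalRing.maximalIdeal.isMaximal Rp).ne_top (top_le_iff.1 (by
    rw [← h, ← Localization.AtPrime.map_eq_maximalIdeal]
    exact Ideal.map_mono hIp))
  have := projective_cotangent_map I p.primeCompl Rp
  have hbc : IsBaseChange Rp (Algebra.idealMap I (S := Rp)) :=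
    IsLocalizedModule.isBaseChange p.primeCompl Rp _
  obtain ⟨r, y, hreg, hspan⟩ := exists_regular_generators Rp J hJ n
    (RegLoc.PD.pd_congr hbc.equiv n (RegLoc.PD.pd_baseChange_of_flat Rp n I hpd))
  have hy : ∀ j, y j ∈ J := fun j => hspan ▸ Ideal.subset_span ⟨j, rfl⟩
  choose as has using fun j => (IsLocalization.mem_map_algebraMap_iff p.primeCompl Rp).1 (hy j)
  let a : Fin r → R := fun j => ((as j).1 : R)
  have hay : ∀ j, algebraMap R Rp (a j) = algebraMap R Rp ((as j).2 : R) * y j := fun j => by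
    rw [mul_comm]; exact (has j).symm
  have hspan' : (Ideal.span (Set.range a)).map (algebraMap R Rp) = J := by
    refine le_antisymm (Ideal.map_mono (Ideal.span_le.2 ?_)) ?_
    · rintro _ ⟨j, rfl⟩; exact (as j).1.2
    · rw [← hspan, Ideal.span_le]
      rintro _ ⟨j, rfl⟩
      have h1 := Ideal.mem_map_of_mem (algebraMap R Rp)
        (show a j ∈ Ideal.span (Set.range a) from Ideal.subset_span ⟨j, rfl⟩)
      rw [hay] at h1
      exact (Ideal.unit_mul_mem_iff_mem _ (IsLocalization.map_units Rp (as j).2)).1 h1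
  have hw : IsWeaklyRegular (LocalizedModule p.primeCompl R)
      ((List.ofFn a).map (algebraMap R Rp)) := by
    refine Vasconcelos.isWeaklyRegular_of_unit_mul (List.ofFn y) _ (LocalizedModule p.primeCompl R)
      ?_ hreg.toIsWeaklyRegular
    rw [List.forall₂_iff_get]
    refine ⟨by simp, fun i h1 h2 => ⟨algebraMap R Rp ((as ⟨i, by simpa using h1⟩).2 : R),
      IsLocalization.map_units Rp _, ?_⟩⟩
    simp [hay]
  obtain ⟨f, hfp, hf⟩ := exists_notMem_isWeaklyRegular_of_isUnit p (List.ofFn a) R hw
  obtain ⟨t, ht⟩ := IsNoetherian.noetherian I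
  have hm : ∀ i ∈ t, ∃ m ∉ p, m * i ∈ Ideal.span (Set.range a) := by
    intro i hi
    have h1 : algebraMap R Rp i ∈ (Ideal.span (Set.range a)).map (algebraMap R Rp) := by
      rw [hspan']; exact Ideal.mem_map_of_mem _ (ht ▸ Ideal.subset_span hi)
    obtain ⟨m, hm, hmi⟩ := (IsLocalization.algebraMap_mem_map_algebraMap_iff p.primeCompl Rp _ i).1 h1
    exact ⟨m, hm, hmi⟩
  choose! m hmp hmI using hm
  refine ⟨f * ∏ i ∈ t, m i, fun h => ?_, ?_⟩
  · rcases ‹p.IsPrime›.mem_or_mem h with h | h
    · exact hfp h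
    · obtain ⟨i, hi, hip⟩ := (‹p.IsPrime›.prod_mem_iff).1 h
      exact hmp i hi hip
  set g := f * ∏ i ∈ t, m i with hg
  let Rg := Localization.Away g
  have hu : IsUnit (algebraMap R Rg g) := IsLocalization.Away.algebraMap_isUnit g
  have hu2 : IsUnit (algebraMap R Rg f * algebraMap R Rg (∏ i ∈ t, m i)) := by
    rw [← map_mul]; exact hu
  have hu' : ∀ i ∈ t, IsUnit (algebraMap R Rg (m i)) := fun i hi => by
    obtain ⟨c, hc⟩ := Finset.dvd_prod_of_mem m hi
    have h := isUnit_of_mul_isUnit_right hu2
    rw [hc, map_mul] at h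
    exact isUnit_of_mul_isUnit_left h
  have hgen : (Ideal.span (Set.range a)).map (algebraMap R Rg) = I.map (algebraMap R Rg) := by
    refine le_antisymm (Ideal.map_mono (Ideal.span_le.2 ?_)) ?_
    · rintro _ ⟨j, rfl⟩; exact (as j).1.2
    · rw [← ht, Ideal.map_span, Ideal.span_le]
      rintro _ ⟨i, hi, rfl⟩
      have h1 := Ideal.mem_map_of_mem (algebraMap R Rg) (hmI i hi)
      rw [map_mul] at h1
      exact (Ideal.unit_mul_mem_iff_mem _ (hu' i hi)).1 h1
  refine ⟨(List.ofFn a).map (algebraMap R Rg), ?_, ?_⟩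
  · refine ⟨hf (Submonoid.powers g) (isUnit_of_mul_isUnit_left hu2), ?_⟩
    intro h
    have hle : Ideal.ofList ((List.ofFn a).map (algebraMap R Rg)) ≤ p.map (algebraMap R Rg) := by
      rw [← Ideal.map_ofList]
      refine Ideal.map_mono (Ideal.span_le.2 fun z hz => ?_)
      obtain ⟨j, rfl⟩ := List.mem_ofFn.1 hz
      exact hIp (as j).1.2
    rw [smul_eq_mul, Ideal.mul_top] at h
    have hdisj : Disjoint (Submonoid.powers g : Set R) p := by
      rw [Set.disjoint_left]
      rintro _ ⟨i, rfl⟩ hi
      have := ‹p.IsPrime›.mem_of_pow_mem i hi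
      rcases ‹p.IsPrime›.mem_or_mem this with h | h
      · exact hfp h
      · obtain ⟨i, hi, hip⟩ := (‹p.IsPrime›.prod_mem_iff).1 h
        exact hmp i hi hip
    exact (IsLocalization.isPrime_of_isPrime_disjoint (Submonoid.powers g) Rg p ‹_› hdisj).ne_top
      (top_le_iff.1 (h ▸ hle))
  · rw [← Ideal.map_ofList, ← hgen]
    congr 1
    refine congrArg Ideal.span (Set.ext fun z => ?_)
    simp [List.mem_ofFn]

end Groth.Agent.LCI.RegularIdeal
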