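import Groth.Agent.DRing.TorBalance
import Mathlib.LinearAlgebra.TensorProduct.Quotient

/-!
# Free resolutions over an `R`-free algebra and vanishing of `Tor`
-/

set_option autoImplicit false
set_option linter.unusedSectionVars false

open CategoryTheory

namespace Groth.Agent.LCI.FreeRes

universe u

variable {P : Type u} [CommRing P]

/-- One differential of a free resolution. -/
structure Lvl (P : Type u) [CommRing P] : Type (u + 1) where
  σ : Type u
  τ : Type u
  f : (τ →₀ P) →ₗ[P] (σ →₀ P)

/-- The next differential: all elements of the kernel. -/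
noncomputable def next (l : Lvl P) : Lvl P :=
  ⟨l.τ, ↥(LinearMap.ker l.f),
    (LinearMap.ker l.f).subtype ∘ₗ Finsupp.linearCombination P id⟩

theorem next_range (l : Lvl P) : LinearMap.range (next l).f = LinearMap.ker l.f := by
  change LinearMap.range ((LinearMap.ker l.f).subtype ∘ₗ Finsupp.linearCombination P id) = _
  rw [LinearMap.range_comp_of_range_eq_top _
    (LinearMap.range_eq_top.2 (Finsupp.linearCombination_id_surjective P _)), Submodule.range_subtype]

/-- The augmentation `P → P ⧸ J`. -/
noncomputable def aug (J : Ideal P) : (PUnit.{u + 1} →₀ P) →ₗ[P] P ⧸ J :=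
  Finsupp.linearCombination P fun _ => (1 : P ⧸ J)

theorem aug_single (J : Ideal P) (c : P) :
    aug J (Finsupp.single PUnit.unit c) = Ideal.Quotient.mk J c := by
  simp [aug, Algebra.smul_def]

theorem aug_surjective (J : Ideal P) : Function.Surjective (aug J) := fun y => by
  obtain ⟨c, rfl⟩ := Ideal.Quotient.mk_surjective y
  exact ⟨_, aug_single J c⟩

/-- The first differential. -/
noncomputable def base (J : Ideal P) : Lvl P :=
  ⟨PUnit, ↥(LinearMap.ker (aug J)),
    (LinearMap.ker (aug J)).subtype ∘ₗ Finsupp.linearCombination P id⟩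

theorem base_range (J : Ideal P) : LinearMap.range (base J).f = LinearMap.ker (aug J) := by
  change LinearMap.range ((LinearMap.ker (aug J)).subtype ∘ₗ Finsupp.linearCombination P id) = _
  rw [LinearMap.range_comp_of_range_eq_top _
    (LinearMap.range_eq_top.2 (Finsupp.linearCombination_id_surjective P _)), Submodule.range_subtype]

/-- All differentials. -/
noncomputable def lvl (J : Ideal P) : ℕ → Lvl P
  | 0 => base J
  | n + 1 => next (lvl J n)

/-- The index sets. -/
abbrev idx (J : Ideal P) (n : ℕ) : Type u := (lvl J n).σ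

/-- The differential `F (n+1) → F n`. -/
noncomputable def diff (J : Ideal P) (n : ℕ) : (idx J (n + 1) →₀ P) →ₗ[P] (idx J n →₀ P) :=
  (lvl J n).f

theorem diff_range (J : Ideal P) (n : ℕ) :
    LinearMap.range (diff J (n + 1)) = LinearMap.ker (diff J n) := next_range _

/-- The augmentation on degree zero. -/
noncomputable def aug₀ (J : Ideal P) : (idx J 0 →₀ P) →ₗ[P] P ⧸ J := aug J

theorem aug₀_surjective (J : Ideal P) : Function.Surjective (aug₀ J) := aug_surjective J

theorem diff_range_zero (J : Ideal P) : LinearMap.range (diff J 0) = LinearMap.ker (aug₀ J) :=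
  base_range J

theorem diff_diff (J : Ideal P) (n : ℕ) (x) : diff J n (diff J (n + 1) x) = 0 :=
  LinearMap.mem_ker.1 ((diff_range J n).le (LinearMap.mem_range_self _ x))

section

variable (R : Type u) [CommRing R] [Algebra R P] [Module.Free R P] (J : Ideal P)

/-- The complex of `R`-modules. -/
noncomputable def cplx : ChainComplex (ModuleCat.{u} R) ℕ :=
  ChainComplex.of (fun n => ModuleCat.of R (idx J n →₀ P))
    (fun n => ModuleCat.ofHom ((diff J n).restrictScalars R)) fun n => by
      apply ModuleCat.hom_ext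
      exact LinearMap.ext fun x => diff_diff J n x

theorem cplx_d (n : ℕ) :
    (cplx R J).d (n + 1) n = ModuleCat.ofHom ((diff J n).restrictScalars R) := by
  simp [cplx]

/-- The projective resolution of `P ⧸ J` over `R`. -/
theorem exists_resolution : ∃ Q : ProjectiveResolution (ModuleCat.of R (P ⧸ J)),
    Q.complex = cplx R J := by
  let e : (cplx R J).X 0 ⟶ ModuleCat.of R (P ⧸ J) :=
    ModuleCat.ofHom ((aug₀ J).restrictScalars R)
  have hd10 := cplx_d R J 0
  have he : (cplx R J).d 1 0 ≫ e = 0 := by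
    rw [hd10]
    apply ModuleCat.hom_ext
    exact LinearMap.ext fun (x : idx J 1 →₀ P) =>
      LinearMap.mem_ker.1 ((diff_range_zero J).le (LinearMap.mem_range_self _ x))
  refine ⟨{
    complex := cplx R J
    projective := fun n => (IsProjective.iff_projective (ModuleCat.of R (idx J n →₀ P))).mp
      inferInstance
    π := (ChainComplex.toSingle₀Equiv _ _).symm ⟨e, he⟩
    quasiIso := ⟨fun n => ?_⟩ }, rfl⟩
  cases n with
  | zero =>
    rw [ChainComplex.quasiIsoAt₀_iff, ShortComplex.quasiIso_iff_of_zeros']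
    · refine (ShortComplex.exact_and_epi_g_iff_of_iso
        (S₂ := ShortComplex.mk ((cplx R J).d 1 0) e he) ?_).2
        ⟨?_, (ModuleCat.epi_iff_surjective _).mpr (aug₀_surjective J)⟩
      · exact ShortComplex.isoMk (Iso.refl _) (Iso.refl _) (Iso.refl _)
          ((Category.id_comp _).trans (Category.comp_id _).symm)
          (by simp [ChainComplex.toSingle₀Equiv]; exact (Category.id_comp _).trans (Category.comp_id _).symm)
      · rw [ShortComplex.moduleCat_exact_iff]
        intro (x : idx J 0 →₀ P) (hx : aug₀ J x = 0)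
        obtain ⟨y, hy⟩ := (diff_range_zero J).ge (LinearMap.mem_ker.2 hx)
        refine ⟨y, ?_⟩
        change ((cplx R J).d 1 0).hom y = x
        rw [hd10]
        exact hy
    all_goals rfl
  | succ n =>
    rw [quasiIsoAt_iff_exactAt' _ _ (ChainComplex.exactAt_succ_single_obj _ _)]
    rw [HomologicalComplex.exactAt_iff' _ (n + 1 + 1) (n + 1) n (by simp) (by simp),
      ShortComplex.moduleCat_exact_iff]
    intro (x : idx J (n + 1) →₀ P) (hx : ((cplx R J).d (n + 1) n).hom x = 0)
    have hx' : diff J n x = 0 := by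
      rw [cplx_d] at hx
      exact hx
    obtain ⟨y, hy⟩ := (diff_range J n).ge (LinearMap.mem_ker.2 hx')
    refine ⟨y, ?_⟩
    change ((cplx R J).d (n + 1 + 1) (n + 1)).hom y = x
    rw [cplx_d]
    exact hy

open MonoidalCategory Groth.Agent.DRing.TorBalance in
/-- If `Tor_{n+1}(P ⧸ J, R ⧸ I) = 0`, cycles modulo `I` are boundaries modulo `I`. -/
theorem exists_of_tor_vanish (I : Ideal R) (n : ℕ)
    (h : Subsingleton (DRing.Tor R (n + 1) (P ⧸ J) (R ⧸ I))) (x : idx J (n + 1) →₀ P)
    (hx : diff J n x ∈ (I • ⊤ : Submodule R (idx J n →₀ P))) :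
    ∃ y, x - diff J (n + 1) y ∈ (I • ⊤ : Submodule R (idx J (n + 1) →₀ P)) := by
  obtain ⟨Q, hQ⟩ := exists_resolution R J
  let N := ModuleCat.of R (R ⧸ I)
  have h1 := (subsingleton_tor_iff_left (isKFlat_cochainComplex Q)
    (resIso Q ≪≫ inDS0 (P ⧸ J)) (R ⧸ I) n).1 h
  have h2 := (subsingleton_tor_iff Q N n).2 h1
  have hC₀ : (((tensorLeft N).mapHomologicalComplex (ComplexShape.down ℕ)).obj Q.complex).ExactAt
      (n + 1) := by
    rw [HomologicalComplex.exactAt_iff_isZero_homology]
    exact (@ModuleCat.isZero_of_subsingleton R _ _ h2).of_iso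
      (Q.isoLeftDerivedObj (tensorLeft N) (n + 1)).symm
  let C := ((tensorLeft N).mapHomologicalComplex (ComplexShape.down ℕ)).obj (cplx R J)
  have hC : C.ExactAt (n + 1) := by rwa [hQ] at hC₀
  rw [C.exactAt_iff' (n + 2) (n + 1) n (by simp) (by simp), ShortComplex.moduleCat_exact_iff] at hC
  have key : ∀ (m : ℕ) (v : idx J (m + 1) →₀ P), ((tensorLeft N).map ((cplx R J).d (m + 1) m)).hom
      ((1 : R ⧸ I) ⊗ₜ[R] v) = (1 : R ⧸ I) ⊗ₜ[R] diff J m v := fun m v => by
    rw [cplx_d]
    rfl
  have hzero : (1 : R ⧸ I) ⊗ₜ[R] diff J n x = 0 := by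
    apply (TensorProduct.quotTensorEquivQuotSMul (idx J n →₀ P) I).injective
    rw [TensorProduct.quotTensorEquivQuotSMul_mk_one_tmul, map_zero, Submodule.Quotient.mk_eq_zero]
    exact hx
  obtain ⟨w, hw⟩ := hC ((1 : R ⧸ I) ⊗ₜ[R] x) ((key n x).trans hzero)
  obtain ⟨y, rfl⟩ := TensorProduct.mk_surjective R _ (R ⧸ I)
    Ideal.Quotient.mk_surjective w
  refine ⟨y, (Submodule.Quotient.eq _).1 ?_⟩
  rw [← TensorProduct.quotTensorEquivQuotSMul_mk_one_tmul,
    ← TensorProduct.quotTensorEquivQuotSMul_mk_one_tmul]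
  exact congrArg _ (hw.symm.trans (key (n + 1) y))

end

end Groth.Agent.LCI.FreeRes
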