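import Groth.Agent.LCI.FreeRes
import Mathlib.LinearAlgebra.ExteriorPower.Basis
import Mathlib.LinearAlgebra.CliffordAlgebra.Contraction
import Mathlib.LinearAlgebra.ExteriorAlgebra.Grading
import Mathlib.LinearAlgebra.Finsupp.Defs

/-!
# The obstruction to finite Tor dimension given by a relation whose lift is not a relation

For a free resolution `F` of `P ⧸ J`, `J = (fs)`, and a relation `∑ r_j fs_j = 0`, we build maps
`Φ_j` from the Koszul complex to `F` raising the degree by `2j` (divided powers of the Tate variable),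
and read off that `g ^ k ∈ J + I` if `Tor` vanishes in degree `2k`.
-/

set_option autoImplicit false
set_option linter.unusedSectionVars false

namespace Groth.Agent.LCI.TorObstruction

open Groth.Agent.LCI.FreeRes

universe u

set_option maxHeartbeats 1000000

variable {P : Type u} [CommRing P] (J : Ideal P)

/-- The total module of the free resolution. -/
abbrev FT : Type u := (Σ i, idx J i) →₀ P

/-- The degree `i` part into the total module. -/
noncomputable def incl (i : ℕ) : (idx J i →₀ P) →ₗ[P] FT J := Finsupp.lmapDomain P P (Sigma.mk i)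

/-- The projection to degree `i`. -/
noncomputable def proj (i : ℕ) : FT J →ₗ[P] (idx J i →₀ P) :=
  Finsupp.lcomapDomain (Sigma.mk i) sigma_mk_injective

/-- The degree `i` submodule. -/
noncomputable def FS (i : ℕ) : Submodule P (FT J) := LinearMap.range (incl J i)

/-- The total differential on basis vectors. -/
noncomputable def dBasis : (Σ i, idx J i) → FT J
  | ⟨0, _⟩ => 0
  | ⟨i + 1, a⟩ => incl J i (diff J i (Finsupp.single a 1))

/-- The total differential. -/
noncomputable def dT : FT J →ₗ[P] FT J := Finsupp.linearCombination P (dBasis J)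

theorem incl_single (i : ℕ) (a : idx J i) (c : P) :
    incl J i (Finsupp.single a c) = Finsupp.single (⟨i, a⟩ : Σ i, idx J i) c := by
  simp [incl]

theorem proj_single_self (i : ℕ) (a : idx J i) (c : P) :
    proj J i (Finsupp.single (⟨i, a⟩ : Σ i, idx J i) c) = Finsupp.single a c :=
  Finsupp.comapDomain_single (f := Sigma.mk i) a c sigma_mk_injective.injOn

theorem proj_single_ne (i j : ℕ) (h : j ≠ i) (a : idx J j) (c : P) :
    proj J i (Finsupp.single (⟨j, a⟩ : Σ i, idx J i) c) = 0 := by
  ext b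
  change Finsupp.single (⟨j, a⟩ : Σ i, idx J i) c ⟨i, b⟩ = 0
  exact Finsupp.single_eq_of_ne fun e => h (congrArg Sigma.fst e).symm

theorem proj_incl (i : ℕ) (x : idx J i →₀ P) : proj J i (incl J i x) = x := by
  induction x using Finsupp.induction_linear with
  | zero => simp
  | add a b ha hb => rw [map_add, map_add, ha, hb]
  | single a c => rw [incl_single, proj_single_self]

theorem dT_incl_succ (i : ℕ) (x : idx J (i + 1) →₀ P) :
    dT J (incl J (i + 1) x) = incl J i (diff J i x) := by
  induction x using Finsupp.induction_linear with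
  | zero => simp
  | add a b ha hb => simp only [map_add, ha, hb]
  | single a c =>
    rw [incl_single, dT, Finsupp.linearCombination_single]
    change c • incl J i (diff J i (Finsupp.single a 1)) = _
    rw [← map_smul, ← map_smul, Finsupp.smul_single, smul_eq_mul, mul_one]

theorem dT_incl_zero (x : idx J 0 →₀ P) : dT J (incl J 0 x) = 0 := by
  induction x using Finsupp.induction_linear with
  | zero => simp
  | add a b ha hb => simp only [map_add, ha, hb, add_zero]
  | single a c =>
    rw [incl_single, dT, Finsupp.linearCombination_single]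
    exact smul_zero c

theorem dT_dT (x : FT J) : dT J (dT J x) = 0 := by
  induction x using Finsupp.induction_linear with
  | zero => simp
  | add a b ha hb => simp only [map_add, ha, hb, add_zero]
  | single s c =>
    obtain ⟨_ | _ | i, a⟩ := s
    · rw [← incl_single J, dT_incl_zero, map_zero]
    · rw [← incl_single J, dT_incl_succ, dT_incl_zero]
    · rw [← incl_single J, dT_incl_succ, dT_incl_succ, diff_diff, map_zero]

theorem proj_dT (i : ℕ) (x : FT J) : proj J i (dT J x) = diff J i (proj J (i + 1) x) := by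
  induction x using Finsupp.induction_linear with
  | zero => simp
  | add a b ha hb => simp only [map_add, ha, hb]
  | single s c =>
    obtain ⟨_ | j, a⟩ := s
    · rw [proj_single_ne J (i + 1) 0 (by omega), ← incl_single J, dT_incl_zero, map_zero, map_zero]
    · rw [← incl_single J, dT_incl_succ]
      by_cases h : j = i
      · subst h
        rw [proj_incl, proj_incl]
      · rw [incl_single J, proj_single_ne J (i + 1) (j + 1) (by omega), map_zero]
        generalize diff J j (Finsupp.single a c) = y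
        induction y using Finsupp.induction_linear with
        | zero => simp
        | add a b ha hb => rw [map_add, map_add, ha, hb, add_zero]
        | single b e => rw [incl_single, proj_single_ne J i j h]

theorem dT_FS {i : ℕ} {x : FT J} (hx : x ∈ FS J (i + 1)) : dT J x ∈ FS J i := by
  obtain ⟨a, rfl⟩ := hx
  exact ⟨diff J i a, (dT_incl_succ J i a).symm⟩

theorem cycle_boundary {q : ℕ} {y : FT J} (hy : y ∈ FS J (q + 1)) (h : dT J y = 0) :
    y ∈ (FS J (q + 2)).map (dT J) := by
  obtain ⟨a, rfl⟩ := hy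
  have ha : diff J q a = 0 := by
    have := congrArg (proj J q) h
    rwa [dT_incl_succ, proj_incl, map_zero] at this
  obtain ⟨b, hb⟩ := (diff_range J q).ge (LinearMap.mem_ker.2 ha)
  exact ⟨incl J (q + 2) b, ⟨b, rfl⟩, by rw [dT_incl_succ, hb]⟩

theorem cycle_boundary_zero {a : idx J 0 →₀ P} (h : aug₀ J a = 0) :
    incl J 0 a ∈ (FS J 1).map (dT J) := by
  obtain ⟨b, hb⟩ := (diff_range_zero J).ge (LinearMap.mem_ker.2 h)
  exact ⟨incl J 1 b, ⟨b, rfl⟩, by rw [dT_incl_succ, hb]⟩

/-- The generator in degree zero. -/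
noncomputable def gen : FT J := incl J 0 (Finsupp.single (PUnit.unit : idx J 0) (1 : P))

theorem gen_mem : gen J ∈ FS J 0 := ⟨_, rfl⟩

theorem aug₀_smul_gen (c : P) :
    aug₀ J (c • (Finsupp.single (PUnit.unit : idx J 0) (1 : P))) = Ideal.Quotient.mk J c := by
  rw [Finsupp.smul_single, smul_eq_mul, mul_one]
  exact aug_single J c

section Koszul

variable {m : ℕ}

/-- The Koszul algebra. -/
abbrev K (P : Type u) [CommRing P] (m : ℕ) : Type u := ExteriorAlgebra P (Fin m → P)

/-- The degree `p` piece. -/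
noncomputable abbrev KS (P : Type u) [CommRing P] (m p : ℕ) : Submodule P (K P m) :=
  ⋀[P]^p (Fin m → P)

/-- The Koszul differential. -/
noncomputable def dK (fs : Fin m → P) : K P m →ₗ[P] K P m :=
  CliffordAlgebra.contractLeft (Q := (0 : QuadraticForm P (Fin m → P)))
    (Fintype.linearCombination P fs)

theorem dK_ι_mul (fs : Fin m → P) (v : Fin m → P) (b : K P m) :
    dK fs (ExteriorAlgebra.ι P v * b) =
      Fintype.linearCombination P fs v • b - ExteriorAlgebra.ι P v * dK fs b :=
  CliffordAlgebra.contractLeft_ι_mul _ _ _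

theorem dK_algebraMap (fs : Fin m → P) (c : P) : dK fs (algebraMap P (K P m) c) = 0 :=
  CliffordAlgebra.contractLeft_algebraMap _ _ _

theorem dK_dK (fs : Fin m → P) (x : K P m) : dK fs (dK fs x) = 0 :=
  CliffordAlgebra.contractLeft_contractLeft _ _

theorem dK_mem (fs : Fin m → P) (n : ℕ) (x : K P m) (hx : x ∈ KS P m n) :
    (n = 0 → dK fs x = 0) ∧ ∀ q, n = q + 1 → dK fs x ∈ KS P m q := by
  induction hx using Submodule.pow_induction_on_left' with
  | algebraMap c => exact ⟨fun _ => dK_algebraMap fs c, fun q h => absurd h (by omega)⟩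
  | add x y i _ _ hx hy =>
    exact ⟨fun h => by rw [map_add, hx.1 h, hy.1 h, add_zero],
      fun q h => by rw [map_add]; exact add_mem (hx.2 q h) (hy.2 q h)⟩
  | mem_mul v hv i b hb ih =>
    refine ⟨fun h => absurd h (by omega), fun q h => ?_⟩
    obtain rfl : q = i := by omega
    obtain ⟨v, rfl⟩ := hv
    rw [dK_ι_mul]
    refine sub_mem (Submodule.smul_mem _ _ hb) ?_
    rcases Nat.eq_zero_or_pos q with h0 | h0
    · rw [ih.1 h0, mul_zero]; exact zero_mem _
    · obtain ⟨q', rfl⟩ : ∃ q', q = q' + 1 := ⟨q - 1, by omega⟩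
      rw [KS, ExteriorAlgebra.exteriorPower, pow_succ']
      exact Submodule.mul_mem_mul ⟨v, rfl⟩ (ih.2 q' rfl)

theorem ι_mul_mem (v : Fin m → P) {p : ℕ} {x : K P m} (hx : x ∈ KS P m p) :
    ExteriorAlgebra.ι P v * x ∈ KS P m (p + 1) := by
  rw [KS, ExteriorAlgebra.exteriorPower, pow_succ']
  exact Submodule.mul_mem_mul ⟨v, rfl⟩ hx

/-- The projection to one piece. -/
noncomputable def pr (p : ℕ) : K P m →ₗ[P] KS P m p :=
  (DirectSum.component P ℕ (fun i => KS P m i) p).comp
    (DirectSum.decomposeLinearEquiv (fun i => KS P m i)).toLinearMap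

theorem pr_same {p : ℕ} {x : K P m} (hx : x ∈ KS P m p) : (pr p x : K P m) = x :=
  DirectSum.decompose_of_mem_same (fun i => KS P m i) hx

theorem pr_ne {p q : ℕ} {x : K P m} (hx : x ∈ KS P m p) (h : p ≠ q) : pr q x = 0 :=
  Subtype.ext (DirectSum.decompose_of_mem_ne (fun i => KS P m i) hx h)

variable (fs : Fin m → P) (t : ℕ)

/-- Degree `t` maps. -/
def HasDeg (Φ : K P m →ₗ[P] FT J) : Prop := ∀ p, ∀ x ∈ KS P m p, Φ x ∈ FS J (p + t)

/-- The homotopy equation in degree `p`. -/
def EqAt (R Φ : K P m →ₗ[P] FT J) (p : ℕ) : Prop :=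
  ∀ x ∈ KS P m p, dT J (Φ x) = R x + Φ (dK fs x)

/-- One step. -/
theorem exists_step (R Φ : K P m →ₗ[P] FT J) (N : ℕ) (hdeg : HasDeg J t Φ)
    (heq : ∀ p < N, EqAt J fs R Φ p)
    (hbd : ∀ x ∈ KS P m N, R x + Φ (dK fs x) ∈ (FS J (N + t)).map (dT J)) :
    ∃ Φ', HasDeg J t Φ' ∧ (∀ p < N + 1, EqAt J fs R Φ' p) ∧
      ∀ p, p ≠ N → ∀ x ∈ KS P m p, Φ' x = Φ x := by
  let tgt : KS P m N →ₗ[P] FT J := (R + Φ.comp (dK fs)).comp (KS P m N).subtype
  let ψ : KS P m N →ₗ[P] (FS J (N + t)).map (dT J) :=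
    tgt.codRestrict _ fun x => hbd x x.2
  let θ : FS J (N + t) →ₗ[P] (FS J (N + t)).map (dT J) :=
    ((dT J).comp (FS J (N + t)).subtype).codRestrict _ fun x => ⟨x, x.2, rfl⟩
  have hθ : Function.Surjective θ := fun ⟨y, x, hx, hy⟩ => ⟨⟨x, hx⟩, Subtype.ext hy⟩
  obtain ⟨c, hc⟩ := Module.projective_lifting_property θ ψ hθ
  let Φ' : K P m →ₗ[P] FT J :=
    Φ + ((FS J (N + t)).subtype.comp c - Φ.comp (KS P m N).subtype).comp (pr N)
  have hne : ∀ p, p ≠ N → ∀ x ∈ KS P m p, Φ' x = Φ x := fun p hp x hx => by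
    simp [Φ', pr_ne hx hp]
  have hsame : ∀ (x : K P m) (hx : x ∈ KS P m N), Φ' x = c ⟨x, hx⟩ := fun x hx => by
    have h1 : pr N x = ⟨x, hx⟩ := Subtype.ext (pr_same hx)
    simp only [Φ', LinearMap.add_apply, LinearMap.comp_apply, LinearMap.sub_apply, h1,
      Submodule.subtype_apply, add_sub_cancel]
  have hdK : ∀ p, p ≤ N → ∀ x ∈ KS P m p, Φ' (dK fs x) = Φ (dK fs x) := fun p hp x hx => by
    cases p with
    | zero => rw [(dK_mem fs 0 x hx).1 rfl, map_zero, map_zero]
    | succ q => exact hne q (by omega) _ ((dK_mem fs _ x hx).2 q rfl)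
  refine ⟨Φ', fun p x hx => ?_, fun p hp x hx => ?_, hne⟩
  · by_cases h : p = N
    · subst h; rw [hsame x hx]; exact (c _).2
    · rw [hne p h x hx]; exact hdeg p x hx
  · rw [hdK p (by omega) x hx]
    by_cases h : p = N
    · subst h
      rw [hsame x hx]
      exact congrArg Subtype.val (LinearMap.congr_fun hc ⟨x, hx⟩)
    · rw [hne p h x hx]
      exact heq p (by omega) x hx

/-- Solution in all degrees. -/
theorem exists_lift (R Φ₀ : K P m →ₗ[P] FT J) (N₀ : ℕ) (hdeg : HasDeg J t Φ₀)
    (heq : ∀ p < N₀, EqAt J fs R Φ₀ p)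
    (hbd : ∀ N ≥ N₀, ∀ Φ : K P m →ₗ[P] FT J, HasDeg J t Φ → (∀ p < N, EqAt J fs R Φ p) →
      (∀ p < N₀, ∀ x ∈ KS P m p, Φ x = Φ₀ x) →
      ∀ x ∈ KS P m N, R x + Φ (dK fs x) ∈ (FS J (N + t)).map (dT J)) :
    ∃ Φ, HasDeg J t Φ ∧ (∀ p, EqAt J fs R Φ p) ∧ ∀ p < N₀, ∀ x ∈ KS P m p, Φ x = Φ₀ x := by
  let Good : ℕ → (K P m →ₗ[P] FT J) → Prop := fun k Φ =>
    HasDeg J t Φ ∧ (∀ p < N₀ + k, EqAt J fs R Φ p) ∧ ∀ p < N₀, ∀ x ∈ KS P m p, Φ x = Φ₀ x
  have step : ∀ k, ∀ Φ : {Φ // Good k Φ}, ∃ Φ' : {Φ' // Good (k + 1) Φ'},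
      ∀ p < N₀ + k, ∀ x ∈ KS P m p, Φ'.1 x = Φ.1 x := by
    rintro k ⟨Φ, h1, h2, h3⟩
    obtain ⟨Φ', h1', h2', h3'⟩ :=
      exists_step J fs t R Φ (N₀ + k) h1 h2 (hbd _ (by omega) Φ h1 h2 h3)
    exact ⟨⟨Φ', h1', h2', fun p hp x hx => (h3' p (by omega) x hx).trans (h3 p hp x hx)⟩,
      fun p hp x hx => h3' p (by omega) x hx⟩
  choose nxt hnxt using step
  let seq : (k : ℕ) → {Φ // Good k Φ} :=
    fun k => Nat.rec (motive := fun k => {Φ // Good k Φ}) ⟨Φ₀, hdeg, heq, fun _ _ _ _ => rfl⟩ nxt k
  have hseq : ∀ p k l, p < N₀ + k → k ≤ l → ∀ x ∈ KS P m p, (seq l).1 x = (seq k).1 x := by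
    intro p k l hp hkl x hx
    induction l, hkl using Nat.le_induction with
    | base => rfl
    | succ l hkl ih => exact (hnxt l (seq l) p (by omega) x hx).trans ih
  let Ψ : K P m →ₗ[P] FT J :=
    (DirectSum.toModule P ℕ (FT J) fun p => (seq (p + 1)).1.comp (KS P m p).subtype).comp
      (DirectSum.decomposeLinearEquiv (fun i => KS P m i)).toLinearMap
  have hΨ : ∀ p, ∀ x ∈ KS P m p, Ψ x = (seq (p + 1)).1 x := fun p x hx => by
    have : DirectSum.decomposeLinearEquiv (fun i => KS P m i) x =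
        DirectSum.lof P ℕ (fun i => KS P m i) p ⟨x, hx⟩ :=
      DirectSum.decompose_of_mem _ hx
    simp only [Ψ, LinearMap.comp_apply, LinearEquiv.coe_coe, this, DirectSum.toModule_lof]
    rfl
  refine ⟨Ψ, fun p x hx => ?_, fun p x hx => ?_, fun p hp x hx => ?_⟩
  · rw [hΨ p x hx]; exact (seq (p + 1)).2.1 p x hx
  · rw [hΨ p x hx, (seq (p + 1)).2.2.1 p (by omega) x hx]
    congr 1
    cases p with
    | zero => rw [(dK_mem fs 0 x hx).1 rfl, map_zero, map_zero]
    | succ q =>
      have hq := (dK_mem fs _ x hx).2 q rfl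
      rw [hΨ q _ hq]
      exact hseq q (q + 1) (q + 1 + 1) (by omega) (by omega) _ hq
  · rw [hΨ p x hx]; exact (seq (p + 1)).2.2.2 p hp x hx

theorem algebraMapInv_eq_zero {p : ℕ} {x : K P m} (hx : x ∈ KS P m p) (hp : p ≠ 0) :
    ExteriorAlgebra.algebraMapInv x = 0 := by
  induction hx using Submodule.pow_induction_on_left' with
  | algebraMap c => exact absurd rfl hp
  | add x y i _ _ hx hy => rw [map_add, hx hp, hy hp, add_zero]
  | mem_mul v hv i b hb ih =>
    obtain ⟨v, rfl⟩ := hv
    simp [ExteriorAlgebra.algebraMapInv, ExteriorAlgebra.lift_ι_apply]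

variable (r : Fin m → P)

/-- The Tate maps: divided powers of the degree two variable. -/
theorem exists_tate (hJ : ∀ i, fs i ∈ J) (hrel : ∑ i, r i * fs i = 0) :
    ∃ Φ : ℕ → (K P m →ₗ[P] FT J), (∀ j, HasDeg J (2 * j) (Φ j)) ∧ Φ 0 1 = gen J ∧
      (∀ x, dT J (Φ 0 x) = Φ 0 (dK fs x)) ∧
      ∀ j x, dT J (Φ (j + 1) x) = Φ j (ExteriorAlgebra.ι P r * x) + Φ (j + 1) (dK fs x) := by
  let ρ : K P m →ₗ[P] K P m := LinearMap.mulLeft P (ExteriorAlgebra.ι P r)
  have all_of_eqAt : ∀ R Φ : K P m →ₗ[P] FT J, (∀ p, EqAt J fs R Φ p) →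
      ∀ x, dT J (Φ x) = R x + Φ (dK fs x) := fun R Φ h x => by
    induction x using DirectSum.Decomposition.inductionOn (fun i => KS P m i) with
    | zero => simp
    | @homogeneous i x => exact h i x x.2
    | add a b ha hb => simp only [map_add, ha, hb]; abel
  -- the base chain map
  let Φi : K P m →ₗ[P] FT J :=
    (LinearMap.toSpanSingleton P (FT J) (gen J)).comp ExteriorAlgebra.algebraMapInv.toLinearMap
  have hΦideg : HasDeg J (2 * 0) Φi := fun p x hx => by
    simp only [Φi, LinearMap.comp_apply, AlgHom.toLinearMap_apply, LinearMap.toSpanSingleton_apply]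
    by_cases hp : p = 0
    · subst hp; exact Submodule.smul_mem _ _ (gen_mem J)
    · rw [algebraMapInv_eq_zero hx hp, zero_smul]; exact zero_mem _
  obtain ⟨Φ₀, hdeg₀, heq₀, hlow⟩ := exists_lift J fs (2 * 0) 0 Φi 1 hΦideg
    (fun p hp x hx => by
      obtain rfl : p = 0 := by omega
      rw [(dK_mem fs 0 x hx).1 rfl, map_zero, LinearMap.zero_apply, add_zero]
      obtain ⟨a, ha⟩ := hΦideg 0 x hx
      rw [← ha]; exact dT_incl_zero J a)
    (fun N hN Φ hdeg heq hlow x hx => by
      rw [LinearMap.zero_apply, zero_add]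
      obtain ⟨q, rfl⟩ : ∃ q, N = q + 1 := ⟨N - 1, by omega⟩
      have hq := (dK_mem fs _ x hx).2 q rfl
      cases q with
      | zero =>
        rw [hlow 0 (by omega) _ hq]
        have hJ' : ∀ y ∈ KS P m 1, ExteriorAlgebra.algebraMapInv (dK fs y) ∈ J := by
          intro y hy
          rw [KS, ExteriorAlgebra.exteriorPower, pow_one] at hy
          obtain ⟨v, rfl⟩ := hy
          rw [← mul_one (ExteriorAlgebra.ι P v), dK_ι_mul, ← map_one (algebraMap P (K P m)),
            dK_algebraMap, mul_zero, sub_zero, map_one, map_smul, map_one, smul_eq_mul, mul_one,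
            Fintype.linearCombination_apply]
          exact J.sum_mem fun i _ => Ideal.mul_mem_left _ _ (hJ i)
        simp only [Φi, LinearMap.comp_apply, AlgHom.toLinearMap_apply,
          LinearMap.toSpanSingleton_apply, gen, ← map_smul]
        refine cycle_boundary_zero J ?_
        exact (aug₀_smul_gen J _).trans (Ideal.Quotient.eq_zero_iff_mem.2 (hJ' x hx))
      | succ q' =>
        refine cycle_boundary J (q := q') (hdeg _ _ hq) ?_
        rw [heq (q' + 1) (by omega) _ hq, dK_dK, map_zero, LinearMap.zero_apply, add_zero])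
  -- the higher maps
  have step : ∀ (j : ℕ) (Φ Rp : K P m →ₗ[P] FT J), HasDeg J (2 * j) Φ →
      (∀ x, dT J (Φ x) = Rp (ρ x) + Φ (dK fs x)) →
      ∃ Φ', HasDeg J (2 * (j + 1)) Φ' ∧ ∀ x, dT J (Φ' x) = Φ (ρ x) + Φ' (dK fs x) := by
    intro j Φ Rp hΦ hΦeq
    have hρρ : ∀ x, ρ (ρ x) = 0 := fun x => by
      simp [ρ, ← mul_assoc, ExteriorAlgebra.ι_sq_zero]
    have hρd : ∀ x, dK fs (ρ x) = - ρ (dK fs x) := fun x => by
      simp only [ρ, LinearMap.mulLeft_apply, dK_ι_mul]
      rw [show Fintype.linearCombination P fs r = 0 from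
        (Fintype.linearCombination_apply ..).trans hrel, zero_smul, zero_sub]
    obtain ⟨Φ', h1, h2, -⟩ := exists_lift J fs (2 * (j + 1)) (Φ.comp ρ) 0 0
      (fun p x _ => zero_mem _) (fun p hp => absurd hp (by omega))
      (fun N _ Φ'' hdeg heq _ x hx => by
        have e : N + 2 * (j + 1) = (N + 2 * j) + 2 := by omega
        rw [e]
        refine cycle_boundary J (q := N + 2 * j) ?_ ?_
        · refine add_mem ?_ ?_
          · have := hΦ _ _ (ι_mul_mem r hx)
            rwa [show N + 1 + 2 * j = N + 2 * j + 1 by omega] at this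
          · cases N with
            | zero => rw [(dK_mem fs 0 x hx).1 rfl, map_zero]; exact zero_mem _
            | succ q =>
              have := hdeg q _ ((dK_mem fs _ x hx).2 q rfl)
              rwa [show q + 2 * (j + 1) = q + 1 + 2 * j + 1 by omega] at this
        · have h0 : dT J (Φ'' (dK fs x)) = Φ (ρ (dK fs x)) := by
            cases N with
            | zero => rw [(dK_mem fs 0 x hx).1 rfl]; simp
            | succ q =>
              rw [heq q (by omega) _ ((dK_mem fs _ x hx).2 q rfl), dK_dK, map_zero, add_zero]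
              rfl
          rw [map_add, LinearMap.comp_apply, hΦeq, h0, hρρ, map_zero, zero_add, hρd, map_neg,
            neg_add_cancel])
    exact ⟨Φ', h1, all_of_eqAt _ _ h2⟩
  let St : ℕ → Type u := fun j => {Φ : K P m →ₗ[P] FT J //
    HasDeg J (2 * j) Φ ∧ ∃ Rp : K P m →ₗ[P] FT J, ∀ x, dT J (Φ x) = Rp (ρ x) + Φ (dK fs x)}
  have step' : ∀ j (Φ : St j), ∃ Φ' : St (j + 1),
      ∀ x, dT J (Φ'.1 x) = Φ.1 (ρ x) + Φ'.1 (dK fs x) := fun j Φ => by
    obtain ⟨Rp, hRp⟩ := Φ.2.2
    obtain ⟨Φ', h1, h2⟩ := step j Φ.1 Rp Φ.2.1 hRp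
    exact ⟨⟨Φ', h1, Φ.1, h2⟩, h2⟩
  choose nxt hnxt using step'
  have h00 : ∀ x, dT J (Φ₀ x) = Φ₀ (dK fs x) := fun x => by
    simpa using all_of_eqAt 0 Φ₀ heq₀ x
  let seq : (j : ℕ) → St j := fun j => Nat.rec (motive := St)
    ⟨Φ₀, hdeg₀, 0, fun x => by simpa using h00 x⟩ nxt j
  refine ⟨fun j => (seq j).1, fun j => (seq j).2.1, ?_, h00, fun j x => hnxt j (seq j) x⟩
  change Φ₀ 1 = gen J
  rw [hlow 0 (by omega) 1 (by rw [KS, ExteriorAlgebra.exteriorPower, pow_zero]; exact Submodule.one_le.1 le_rfl)]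
  simp [Φi]

end Koszul

section Main

variable {P' : Type u} [CommRing P'] (red : P' →+* P) (f : P')

/-- Coefficientwise reduction. -/
noncomputable def redF {α : Type u} : (α →₀ P') →+ (α →₀ P) :=
  Finsupp.mapRange.addMonoidHom red.toAddMonoidHom

theorem redF_apply {α : Type u} (x : α →₀ P') (a : α) : redF red x a = red (x a) := rfl

theorem redF_single {α : Type u} (a : α) (c : P') :
    redF red (Finsupp.single a c) = Finsupp.single a (red c) :=
  Finsupp.mapRange_single (f := ⇑red) (hf := map_zero red)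

theorem redF_surjective {α : Type u} (h : Function.Surjective red) :
    Function.Surjective (redF red (α := α)) := fun y => by
  induction y using Finsupp.induction_linear with
  | zero => exact ⟨0, map_zero _⟩
  | add a b ha hb =>
    obtain ⟨x, rfl⟩ := ha
    obtain ⟨z, rfl⟩ := hb
    exact ⟨x + z, map_add _ _ _⟩
  | single a c =>
    obtain ⟨c, rfl⟩ := h c
    exact ⟨_, redF_single red a c⟩

/-- If `Tor` vanishes modulo `Ī` in large degrees, a power of `red g` lies in `J + Ī`. -/
theorem exists_pow_mem (hsurj : Function.Surjective red) (hker : RingHom.ker red = Ideal.span {f})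
    (hf : f * f = 0) (Ī : Ideal P) (hI : ∀ a ∈ Ī, ∃ a', red a' = a ∧ f * a' = 0)
    (hI' : ∀ a', f * a' = 0 → red a' ∈ Ī) {m : ℕ} (fs r : Fin m → P) (r' f' : Fin m → P')
    (hJ : ∀ i, fs i ∈ J) (hr' : ∀ i, red (r' i) = r i) (hf' : ∀ i, red (f' i) = fs i)
    (hrI : ∀ i, r i ∈ Ī) (g : P') (hsum : ∑ i, r' i * f' i = f * g) (d : ℕ)
    (htor : ∀ n, d ≤ n → ∀ x : idx J (n + 1) →₀ P,
      diff J n x ∈ (Ī • ⊤ : Submodule P (idx J n →₀ P)) →
      ∃ y, x - diff J (n + 1) y ∈ (Ī • ⊤ : Submodule P (idx J (n + 1) →₀ P))) :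
    ∃ k, red g ^ k ∈ J ⊔ Ī := by
  classical
  have hfr : ∀ i, f * r' i = 0 := fun i => by
    obtain ⟨a, ha, hfa⟩ := hI _ (hrI i)
    have : r' i - a ∈ RingHom.ker red := by simp [RingHom.mem_ker, hr', ha]
    rw [hker, Ideal.mem_span_singleton'] at this
    obtain ⟨c, hc⟩ := this
    rw [show r' i = a + c * f by rw [hc]; ring, mul_add, hfa, mul_left_comm, hf, mul_zero, add_zero]
  have hredf : red f = 0 := by
    rw [← RingHom.mem_ker, hker]; exact Ideal.mem_span_singleton_self f
  have hrel : ∑ i, r i * fs i = 0 := by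
    have := congrArg red hsum
    simpa [map_sum, hr', hf', hredf] using this
  obtain ⟨Φ, hdeg, h1, heq0, heq⟩ := exists_tate J fs r hJ hrel
  -- lifts of the free module
  let F' := (Σ i, idx J i) →₀ P'
  let rd : F' →+ FT J := redF red
  have rd_apply : ∀ (x : F') s, rd x s = red (x s) := fun x s => redF_apply red x s
  have rd_smul : ∀ (c : P') (x : F'), rd (c • x) = red c • rd x := fun c x => by
    refine Finsupp.ext fun s => ?_
    rw [rd_apply, Finsupp.smul_apply, Finsupp.smul_apply, rd_apply]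
    exact map_mul red c (x s)
  have rd_surj : Function.Surjective rd := redF_surjective red hsurj
  choose dl hdl using fun s => rd_surj (dBasis J s)
  let d' : F' →ₗ[P'] F' := Finsupp.linearCombination P' dl
  have rd_d : ∀ x, rd (d' x) = dT J (rd x) := fun x => by
    induction x using Finsupp.induction_linear with
    | zero => simp
    | add a b ha hb => simp only [map_add, ha, hb]
    | single s c =>
      rw [show d' (Finsupp.single s c) = c • dl s from Finsupp.linearCombination_single .., rd_smul,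
        hdl, show rd (Finsupp.single s c) = Finsupp.single s (red c) from redF_single red s c,
        dT, Finsupp.linearCombination_single]
  have rd_zero : ∀ z : F', rd z = 0 → ∃ w, z = f • w := fun z hz => by
    have hz' : ∀ s, ∃ c, z s = c * f := fun s => by
      have : z s ∈ RingHom.ker red := by
        rw [RingHom.mem_ker]
        rw [← rd_apply, hz]; rfl
      rw [hker, Ideal.mem_span_singleton'] at this
      obtain ⟨c, hc⟩ := this
      exact ⟨c, hc.symm⟩
    choose c hc using hz'
    refine ⟨Finsupp.onFinset z.support (fun s => if s ∈ z.support then c s else 0)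
      (fun s h => by by_contra hs; exact h (if_neg hs)), Finsupp.ext fun s => ?_⟩
    rw [Finsupp.smul_apply, Finsupp.onFinset_apply, smul_eq_mul]
    split_ifs with hs
    · rw [hc, mul_comm]
    · rw [mul_zero]; exact Finsupp.notMem_support_iff.1 hs
  have fmem : ∀ x : F', f • x = 0 → rd x ∈ (Ī • ⊤ : Submodule P (FT J)) := fun x hx => by
    rw [← Finsupp.sum_single (rd x)]
    refine Submodule.sum_mem _ fun s _ => ?_
    rw [← Finsupp.smul_single_one]
    have hs : f * x s = 0 := by
      have := DFunLike.congr_fun hx s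
      rwa [Finsupp.smul_apply, smul_eq_mul, Finsupp.zero_apply] at this
    exact Submodule.smul_mem_smul (rd_apply x s ▸ hI' (x s) hs) trivial
  have Imem : ∀ x ∈ (Ī • ⊤ : Submodule P (FT J)), ∃ x', rd x' = x ∧ f • x' = 0 := fun x hx => by
    refine Submodule.smul_induction_on hx (fun a ha z _ => ?_) fun a b ha hb => ?_
    · obtain ⟨a', ha', hfa⟩ := hI a ha
      obtain ⟨z', rfl⟩ := rd_surj z
      exact ⟨a' • z', by rw [rd_smul, ha'], by rw [smul_smul, hfa, zero_smul]⟩
    · obtain ⟨a', ha', hfa⟩ := ha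
      obtain ⟨b', hb', hfb⟩ := hb
      exact ⟨a' + b', by rw [map_add, ha', hb'], by rw [smul_add, hfa, hfb, add_zero]⟩
  let Bd : Submodule P (FT J) := LinearMap.range (dT J) ⊔ Ī • ⊤
  -- the key operator `d'² / f`
  have hsq : ∀ z, ∃ w, d' (d' z) = f • w := fun z => rd_zero _ (by rw [rd_d, rd_d, dT_dT])
  have hkey : ∀ x y : F', rd x ∈ Bd → d' (d' x) = f • y → rd y ∈ Bd := fun x y hx hy => by
    obtain ⟨_, ⟨z, rfl⟩, a, ha, hza⟩ := Submodule.mem_sup.1 hx
    obtain ⟨z', rfl⟩ := rd_surj z
    obtain ⟨a', rfl, hfa⟩ := Imem a ha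
    obtain ⟨c, hc⟩ := rd_zero (x - d' z' - a') (by simp [map_sub, rd_d, ← hza])
    obtain ⟨w, hw⟩ := hsq z'
    obtain ⟨wc, hwc⟩ := hsq c
    have hsa : d' (d' a') = 0 := by
      rw [← Finsupp.sum_single a', map_finsuppSum, map_finsuppSum]
      refine Finset.sum_eq_zero fun s _ => ?_
      obtain ⟨w, hw⟩ := hsq (Finsupp.single s 1)
      change d' (d' (Finsupp.single s (a' s))) = 0
      rw [← Finsupp.smul_single_one, map_smul, map_smul, hw, smul_smul,
        mul_comm, show f * a' s = 0 by
          have := DFunLike.congr_fun hfa s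
          rwa [Finsupp.smul_apply, smul_eq_mul, Finsupp.zero_apply] at this, zero_smul]
    have hfy : f • (y - d' w) = 0 := by
      have hx' : x = d' z' + a' + f • c := by rw [← hc]; abel
      rw [smul_sub, ← hy, hx', map_add, map_add, map_add, map_add, hsa, add_zero, map_smul,
        map_smul, hwc, smul_smul, hf, zero_smul, add_zero, hw, map_smul, sub_self]
    have hmem := fmem _ hfy
    rw [map_sub, rd_d] at hmem
    have := Bd.add_mem (Submodule.mem_sup_right hmem)
      (Submodule.mem_sup_left (LinearMap.mem_range_self (dT J) (rd w)))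
    rwa [sub_add_cancel] at this
  -- elements
  let e : Fin m → (Fin m → P) := fun i => Pi.single i 1
  let u : ℕ → FT J := fun j => Φ j 1
  let v : ℕ → Fin m → FT J := fun j i => Φ j (ExteriorAlgebra.ι P (e i))
  have hsumι : ∀ x : K P m, ExteriorAlgebra.ι P r * x =
      ∑ i, r i • (ExteriorAlgebra.ι P (e i) * x) := fun x => by
    have : r = ∑ i, r i • e i := by
      funext k; simp [e, Finset.sum_apply, Pi.single_apply]
    conv_lhs => rw [this]
    simp [map_sum, Finset.sum_mul]
  have hdu : ∀ j, dT J (u (j + 1)) = ∑ i, r i • v j i := fun j => by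
    have := heq j 1
    rw [← map_one (algebraMap P (K P m)), dK_algebraMap, map_zero, add_zero, map_one] at this
    rw [show u (j + 1) = Φ (j + 1) 1 from rfl, this, hsumι, map_sum]
    simp [v]
  have hde : ∀ i, dK fs (ExteriorAlgebra.ι P (e i)) = fs i • (1 : K P m) := fun i => by
    conv_lhs => rw [← mul_one (ExteriorAlgebra.ι P (e i))]
    rw [dK_ι_mul, ← map_one (algebraMap P (K P m)), dK_algebraMap, mul_zero, sub_zero, map_one,
      Fintype.linearCombination_apply]
    simp [e, Pi.single_apply]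
  -- alternating correction terms
  have hw : ∀ j, ∃ w' : Fin m → Fin m → F', (∀ l i, w' l i = - w' i l) ∧ (∀ i, w' i i = 0) ∧
      ∀ i, dT J (v j i) = fs i • u j + ∑ l, r l • rd (w' l i) := by
    intro j
    cases j with
    | zero =>
      refine ⟨0, fun _ _ => by simp, fun _ => rfl, fun i => ?_⟩
      simp only [v, u, heq0, hde, map_smul, Pi.zero_apply, map_zero, smul_zero,
        Finset.sum_const_zero, add_zero]
    | succ j =>
      choose w0 hw0 using fun l i =>
        rd_surj (Φ j (ExteriorAlgebra.ι P (e l) * ExteriorAlgebra.ι P (e i)))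
      have anti : ∀ l i, ExteriorAlgebra.ι P (e l) * ExteriorAlgebra.ι P (e i) =
          - (ExteriorAlgebra.ι P (e i) * ExteriorAlgebra.ι P (e l)) := fun l i =>
        eq_neg_of_add_eq_zero_left (ExteriorAlgebra.ι_add_mul_swap (e l) (e i))
      refine ⟨fun l i => if l < i then w0 l i else if i < l then - w0 i l else 0,
        fun l i => ?_, fun i => by simp, fun i => ?_⟩
      · rcases lt_trichotomy l i with h | rfl | h
        · simp only [h, h.not_gt, if_true, if_false]
          exact (neg_neg _).symm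
        · simp
        · simp [h, h.not_gt]
      · have h := heq j (ExteriorAlgebra.ι P (e i))
        rw [hde, map_smul, hsumι, map_sum] at h
        rw [show v (j + 1) i = Φ (j + 1) (ExteriorAlgebra.ι P (e i)) from rfl, h, add_comm]
        refine congrArg₂ _ rfl (Finset.sum_congr rfl fun l _ => ?_)
        rw [map_smul]
        congr 1
        rcases lt_trichotomy l i with h | rfl | h
        · simp [h, hw0]
        · simp [ExteriorAlgebra.ι_sq_zero]
        · simp [h, h.not_gt, hw0, anti l i]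
  choose w' hw'a hw'0 hw' using hw
  choose u' hu' using fun j => rd_surj (u j)
  choose v' hv' using fun j i => rd_surj (v j i)
  have hmain : ∀ j, ∃ y, d' (d' (u' (j + 1))) = f • (g • u' j + d' y) := by
    intro j
    obtain ⟨h, hh⟩ := rd_zero (d' (u' (j + 1)) - ∑ i, r' i • v' j i) (by
      simp [map_sub, map_sum, rd_d, hu', hdu, rd_smul, hr', hv'])
    have hv : ∀ i, ∃ a, d' (v' j i) = f' i • u' j + ∑ l, r' l • w' j l i + f • a := fun i => by
      obtain ⟨a, ha⟩ := rd_zero (d' (v' j i) - (f' i • u' j + ∑ l, r' l • w' j l i)) (by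
        simp [map_sub, map_add, map_sum, rd_d, hu', hv', hw', rd_smul, hf', hr'])
      exact ⟨a, eq_add_of_sub_eq' ha⟩
    choose a ha using hv
    refine ⟨h, ?_⟩
    rw [eq_add_of_sub_eq' hh, map_add, map_sum, map_smul, smul_add, ← mul_smul, ← hsum, Finset.sum_smul]
    congr 1
    simp only [map_smul, ha, smul_add, Finset.smul_sum, smul_smul, Finset.sum_add_distrib]
    have hzero : ∑ i, ∑ l, (r' i * r' l) • w' j l i = 0 := by
      rw [← Fintype.sum_prod_type']
      refine Finset.sum_ninvolution (fun p => (p.2, p.1)) (fun p => ?_) (fun p hp => ?_)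
        (fun p => Finset.mem_univ _) fun p => rfl
      · rw [hw'a j p.2 p.1, mul_comm (r' p.1), smul_neg]; abel
      · intro he
        have h12 : p.2 = p.1 := congrArg Prod.fst he
        apply hp
        rw [h12, hw'0, smul_zero]
    rw [hzero, add_zero]
    have : ∀ i, (r' i * f) • a i = 0 := fun i => by rw [mul_comm, hfr, zero_smul]
    simp [this]
  -- the induction
  have hstart : rd (u' (d + 1)) ∈ Bd := by
    rw [hu']
    have hmem : u (d + 1) ∈ FS J (0 + 2 * (d + 1)) :=
      hdeg (d + 1) 0 1 (by rw [KS, ExteriorAlgebra.exteriorPower, pow_zero]; exact Submodule.one_le.1 le_rfl)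
    rw [show 0 + 2 * (d + 1) = (2 * d + 1) + 1 by omega] at hmem
    obtain ⟨x, hx⟩ := hmem
    have hdx : diff J (2 * d + 1) x ∈ (Ī • ⊤ : Submodule P (idx J (2 * d + 1) →₀ P)) := by
      have h := congrArg (proj J (2 * d + 1)) (hdu d)
      rw [← hx, dT_incl_succ, proj_incl, map_sum] at h
      rw [h]
      refine Submodule.sum_mem _ fun i _ => ?_
      rw [map_smul]
      exact Submodule.smul_mem_smul (hrI i) trivial
    obtain ⟨y, hy⟩ := htor (2 * d + 1) (by omega) x hdx
    have h1 : incl J (2 * d + 1 + 1) (x - diff J (2 * d + 1 + 1) y) ∈ (Ī • ⊤ : Submodule P (FT J)) := by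
      have := Submodule.mem_map_of_mem (f := incl J (2 * d + 1 + 1)) hy
      rw [Submodule.map_smul''] at this
      exact Submodule.smul_mono le_rfl le_top this
    rw [map_sub, hx, ← dT_incl_succ] at h1
    have := Bd.add_mem (Submodule.mem_sup_right h1)
      (Submodule.mem_sup_left (LinearMap.mem_range_self (dT J) (incl J (2 * d + 1 + 1 + 1) y)))
    rwa [sub_add_cancel] at this
  have hdown : ∀ a j, a + j = d + 1 → rd (g ^ a • u' j) ∈ Bd := by
    intro a
    induction a with
    | zero => intro j hj; obtain rfl : j = d + 1 := (by omega); simpa using hstart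
    | succ a ih =>
      intro j hj
      obtain ⟨y, hy⟩ := hmain j
      have h := hkey (g ^ a • u' (j + 1)) (g ^ a • (g • u' j + d' y)) (ih (j + 1) (by omega)) (by
        rw [map_smul, map_smul, hy, smul_comm])
      rw [smul_add, map_add, rd_smul _ (d' y), rd_d] at h
      have h2 : rd (g ^ a • g • u' j) + red (g ^ a) • dT J (rd y) - red (g ^ a) • dT J (rd y) ∈ Bd :=
        sub_mem h (Submodule.smul_mem _ _ (Submodule.mem_sup_left (LinearMap.mem_range_self _ _)))
      rwa [add_sub_cancel_right, smul_smul, ← pow_succ] at h2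
  refine ⟨d + 1, ?_⟩
  have h := hdown (d + 1) 0 rfl
  rw [rd_smul, map_pow, hu', show u 0 = gen J from h1] at h
  -- read off degree zero
  let ev : FT J →ₗ[P] P ⧸ (J ⊔ Ī) :=
    (Submodule.liftQ J (Ideal.Quotient.mkₐ P (J ⊔ Ī)).toLinearMap fun c hc =>
      (Ideal.Quotient.eq_zero_iff_mem (I := J ⊔ Ī)).2 (Ideal.mem_sup_left hc)).comp
      ((aug₀ J).comp (proj J 0))
  have hev : Bd ≤ LinearMap.ker ev := by
    refine sup_le ?_ (Submodule.smul_le.2 fun c hc z _ => ?_)
    · rintro _ ⟨z, rfl⟩
      rw [LinearMap.mem_ker]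
      simp only [ev, LinearMap.comp_apply, proj_dT]
      rw [show aug₀ J (diff J 0 (proj J 1 z)) = 0 from
        (diff_range_zero J).le (LinearMap.mem_range_self _ _), map_zero]
    · rw [LinearMap.mem_ker, map_smul, Algebra.smul_def, Ideal.Quotient.algebraMap_eq,
        Ideal.Quotient.eq_zero_iff_mem.2 (Ideal.mem_sup_right hc), zero_mul]
  have h2 := hev h
  rw [LinearMap.mem_ker] at h2
  simp only [ev, LinearMap.comp_apply, map_smul, gen, proj_incl] at h2
  rw [show aug₀ J (Finsupp.single (PUnit.unit : idx J 0) (1 : P)) = Ideal.Quotient.mk J 1 from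
    aug_single J 1] at h2
  rw [show (Ideal.Quotient.mk J 1) = Submodule.Quotient.mk (1 : P) from rfl, Submodule.liftQ_apply,
    AlgHom.toLinearMap_apply, ← map_smul, smul_eq_mul, mul_one] at h2
  exact Ideal.Quotient.eq_zero_iff_mem.1 h2

end Main

end Groth.Agent.LCI.TorObstruction
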